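import Groth.Prelude.Def_ComodDual
import Groth.Prelude.Def_ComodTens
import Groth.Prelude.Def_Hoch
import Mathlib.RingTheory.HopfAlgebra.Convolution
import Mathlib.RingTheory.Flat.Basic
import Mathlib.RingTheory.Flat.Stability
import Mathlib.Algebra.Module.FinitePresentation

/-! Invariants of `B ⊗ M^*` are the comodule maps `M → B`. -/

universe u v w w'

open TensorProduct WithConv

noncomputable section

namespace Groth.Agent.ComodDualEx

variable {k : Type u} [CommRing k]

/-- `dualTensorHom` is bijective for finitely presented source and flat target. -/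
theorem dualTensorHom_bijective_of_flat {M : Type w} [AddCommGroup M] [Module k M] [Module.FinitePresentation k M]
    (N : Type w') [AddCommGroup N] [Module k N] [Module.Flat k N] :
    Function.Bijective (dualTensorHom k M N) := by
  obtain ⟨n, m, f, g, hf, hfg⟩ := Module.FinitePresentation.exists_fin' (R := k) (M := M)
  have hgf : f ∘ₗ g = 0 := hfg.linearMap_comp_eq_zero
  have hex : Function.Exact f.dualMap g.dualMap := by
    intro φ
    constructor
    · intro hφ
      have hle : LinearMap.ker f ≤ LinearMap.ker φ := by
        rw [LinearMap.exact_iff.1 hfg]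
        rintro _ ⟨z, rfl⟩
        exact LinearMap.congr_fun hφ z
      refine ⟨(LinearMap.ker f).liftQ φ hle ∘ₗ (f.quotKerEquivOfSurjective hf).symm.toLinearMap, ?_⟩
      ext z
      simp
    · rintro ⟨ψ, rfl⟩
      ext z
      simp [hfg.apply_apply_eq_zero]
  have hinj : Function.Injective f.dualMap := LinearMap.dualMap_injective_of_surjective hf
  have hinjN := Module.Flat.rTensor_preserves_injective_linearMap (M := N) f.dualMap hinj
  have hexN := Module.Flat.rTensor_exact N hex
  have h0 := dualTensorHom_bijective (R := k) (M := Fin n → k) (N := N)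
  have h1 := dualTensorHom_bijective (R := k) (M := Fin m → k) (N := N)
  have c0 : ∀ x, dualTensorHom k _ N (f.dualMap.rTensor N x) = dualTensorHom k M N x ∘ₗ f := fun x =>
    LinearMap.congr_fun (dualTensorHom_comp_rTensor_dualMap f) x
  have c1 : ∀ x, dualTensorHom k _ N (g.dualMap.rTensor N x) = dualTensorHom k _ N x ∘ₗ g := fun x =>
    LinearMap.congr_fun (dualTensorHom_comp_rTensor_dualMap g) x
  refine ⟨fun x y hxy => hinjN (h0.1 (by rw [c0, c0, hxy])), fun φ => ?_⟩
  obtain ⟨y, hy⟩ := h0.2 (φ ∘ₗ f)
  obtain ⟨x, rfl⟩ := (hexN y).1 (h1.1 (by rw [c1, hy, map_zero, LinearMap.comp_assoc, hgf, LinearMap.comp_zero]))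
  refine ⟨x, LinearMap.ext fun z => ?_⟩
  obtain ⟨z, rfl⟩ := hf z
  rw [c0] at hy
  exact LinearMap.congr_fun hy z

variable {A : Type v} [CommRing A] [HopfAlgebra k A]
  {B : Type w} [AddCommGroup B] [Module k B]
  {M : Type w'} [AddCommGroup M] [Module k M]

variable (k A B) in
/-- Multiplication into the algebra factor. -/
def mu : (B ⊗[k] A) ⊗[k] A →ₗ[k] B ⊗[k] A :=
  (LinearMap.mul' k A).lTensor B ∘ₗ (TensorProduct.assoc k B A A).toLinearMap

@[simp] lemma mu_tmul (b : B) (a a' : A) : mu k A B ((b ⊗ₜ a) ⊗ₜ a') = b ⊗ₜ (a * a') := by simp [mu]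

/-- Twisting a map into `B ⊗ A` by an endomorphism of `A`. -/
def star (cM : HopfRep.Comod k A M) (F : M →ₗ[k] B ⊗[k] A) (g : A →ₗ[k] A) : M →ₗ[k] B ⊗[k] A :=
  mu k A B ∘ₗ TensorProduct.map F g ∘ₗ cM.coact

lemma star_star (cM : HopfRep.Comod k A M) (F : M →ₗ[k] B ⊗[k] A) (g g' : A →ₗ[k] A) :
    star cM (star cM F g) g' = star cM F (toConv g * toConv g').ofConv := by
  ext x
  have hco := LinearMap.congr_fun cM.coassoc x
  simp only [LinearMap.coe_comp, Function.comp_apply, LinearEquiv.coe_coe] at hco
  have e1 : ∀ t : M ⊗[k] A, mu k A B (TensorProduct.map (star cM F g) g' t) =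
      mu k A B (TensorProduct.map (mu k A B ∘ₗ TensorProduct.map F g) g' (cM.coact.rTensor A t)) := fun t => by
    induction t using TensorProduct.induction_on with
    | zero => simp
    | tmul m a => simp [star]
    | add p q hp hq => simp only [map_add, hp, hq]
  have e2 : ∀ t : (M ⊗[k] A) ⊗[k] A, mu k A B (TensorProduct.map (mu k A B ∘ₗ TensorProduct.map F g) g' t) =
      mu k A B (TensorProduct.map F (LinearMap.mul' k A ∘ₗ TensorProduct.map g g')
        (TensorProduct.assoc k M A A t)) := fun t => by
    induction t using TensorProduct.induction_on with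
    | zero => simp
    | add p q hp hq => simp only [map_add, hp, hq]
    | tmul y a' =>
      induction y using TensorProduct.induction_on with
      | zero => simp
      | add p q hp hq => simp only [TensorProduct.add_tmul, map_add, hp, hq]
      | tmul m a =>
        simp only [TensorProduct.map_tmul, TensorProduct.assoc_tmul, LinearMap.comp_apply, LinearMap.mul'_apply]
        induction F m using TensorProduct.induction_on with
        | zero => simp
        | add p q hp hq => simp only [TensorProduct.add_tmul, map_add, hp, hq]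
        | tmul b c => simp [mul_assoc]
  have e3 : ∀ t : M ⊗[k] A, TensorProduct.map F (LinearMap.mul' k A ∘ₗ TensorProduct.map g g')
      ((CoalgebraStruct.comul (R := k) (A := A)).lTensor M t) =
      TensorProduct.map F (LinearMap.mul' k A ∘ₗ TensorProduct.map g g' ∘ₗ CoalgebraStruct.comul) t := fun t => by
    induction t using TensorProduct.induction_on with
    | zero => simp
    | tmul m a => simp
    | add p q hp hq => simp only [map_add, hp, hq]
  show mu k A B (TensorProduct.map (star cM F g) g' (cM.coact x)) = _
  rw [e1, e2, hco, e3]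
  rfl

lemma star_one (cM : HopfRep.Comod k A M) (F : M →ₗ[k] B ⊗[k] A) :
    star cM F (1 : WithConv (A →ₗ[k] A)).ofConv = F := by
  ext x
  have hc := LinearMap.congr_fun cM.counit_comp x
  simp only [LinearMap.coe_comp, Function.comp_apply, LinearMap.flip_apply, TensorProduct.mk_apply] at hc
  have e1 : ∀ t : M ⊗[k] A, mu k A B (TensorProduct.map F (1 : WithConv (A →ₗ[k] A)).ofConv t) =
      mu k A B (TensorProduct.map F (Algebra.linearMap k A)
        ((CoalgebraStruct.counit (R := k) (A := A)).lTensor M t)) := fun t => by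
    induction t using TensorProduct.induction_on with
    | zero => simp
    | tmul m a => simp [LinearMap.convOne_def]
    | add p q hp hq => simp only [map_add, hp, hq]
  show mu k A B (TensorProduct.map F (1 : WithConv (A →ₗ[k] A)).ofConv (cM.coact x)) = _
  rw [e1, hc, TensorProduct.map_tmul, Algebra.linearMap_apply, map_one]
  induction F x using TensorProduct.induction_on with
  | zero => simp
  | add p q hp hq => simp only [TensorProduct.add_tmul, map_add, hp, hq]
  | tmul b c => simp

variable (k A B M) in
/-- Reading `(B ⊗ M^*) ⊗ A` as maps `M → B ⊗ A`. -/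
def psi : (B ⊗[k] Module.Dual k M) ⊗[k] A →ₗ[k] M →ₗ[k] B ⊗[k] A :=
  dualTensorHom k M (B ⊗[k] A) ∘ₗ (TensorProduct.assoc k (Module.Dual k M) B A).toLinearMap ∘ₗ
    (TensorProduct.comm k B (Module.Dual k M)).toLinearMap.rTensor A

@[simp] lemma psi_tmul (b : B) (φ : Module.Dual k M) (a : A) (m : M) :
    psi k A B M ((b ⊗ₜ φ) ⊗ₜ a) m = φ m • (b ⊗ₜ a) := by simp [psi]

lemma psi_bijective [Module.FinitePresentation k M] [Module.Flat k B] [Module.Flat k A] :
    Function.Bijective (psi k A B M) := by
  refine (dualTensorHom_bijective_of_flat (k := k) (M := M) (B ⊗[k] A)).comp ?_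
  exact (TensorProduct.assoc k (Module.Dual k M) B A).bijective.comp
    ((TensorProduct.comm k B (Module.Dual k M)).rTensor A).bijective

/-- The map `M → B` attached to a tensor. -/
abbrev hom (x : B ⊗[k] Module.Dual k M) : M →ₗ[k] B :=
  dualTensorHom k M B (TensorProduct.comm k B (Module.Dual k M) x)

lemma psi_coact (cB : HopfRep.Comod k A B) (cM : HopfRep.Comod k A M) (d : HopfRep.Comod k A (Module.Dual k M))
    (hd : ComodTens.Comod.IsDual cM d) (x : B ⊗[k] Module.Dual k M) :
    psi k A B M ((ComodTens.Comod.tensor cB d).coact x) =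
      star cM (cB.coact ∘ₗ hom x) (HopfAlgebraStruct.antipode (R := k) (A := A)) := by
  induction x using TensorProduct.induction_on with
  | zero => ext; simp [star, hom]
  | add p q hp hq =>
    rw [map_add, map_add, hp, hq]
    ext m
    simp [star, hom, TensorProduct.map_add_left, LinearMap.comp_add]
  | tmul b φ =>
    ext m
    rw [ComodTens.tensor_coact_tmul]
    have e1 : ∀ (y : B ⊗[k] A) (z : Module.Dual k M ⊗[k] A),
        psi k A B M (TensorProduct.map LinearMap.id (LinearMap.mul' k A)
          (AlgebraTensorModule.tensorTensorTensorComm k k k k B A (Module.Dual k M) A (y ⊗ₜ z))) m =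
        mu k A B (y ⊗ₜ dualTensorHom k M A z m) := fun y z => by
      induction y using TensorProduct.induction_on with
      | zero => simp
      | add p q hp hq => simp only [TensorProduct.add_tmul, map_add, LinearMap.add_apply, hp, hq]
      | tmul b' a =>
        induction z using TensorProduct.induction_on with
        | zero => simp
        | add p q hp hq => simp only [TensorProduct.tmul_add, map_add, LinearMap.add_apply, hp, hq]
        | tmul ψ a' => simp [TensorProduct.smul_tmul']
    rw [e1, hd φ]
    show mu k A B (cB.coact b ⊗ₜ[k] ComodTens.dualCoactFun cM φ m) = mu k A B (TensorProduct.map _ _ (cM.coact m))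
    rw [ComodTens.dualCoactFun_apply]
    induction cM.coact m using TensorProduct.induction_on with
    | zero => simp
    | add p q hp hq => simp only [TensorProduct.tmul_add, map_add, hp, hq]
    | tmul m' a => simp [hom, TensorProduct.smul_tmul', TensorProduct.tmul_smul]

lemma psi_tmul_one (x : B ⊗[k] Module.Dual k M) :
    psi k A B M (x ⊗ₜ 1) = (TensorProduct.mk k B A).flip 1 ∘ₗ hom x := by
  induction x using TensorProduct.induction_on with
  | zero => ext; simp [hom]
  | add p q hp hq =>
    rw [TensorProduct.add_tmul, map_add, hp, hq]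
    ext m
    simp [hom, TensorProduct.add_tmul]
  | tmul b φ => ext m; simp [hom, TensorProduct.smul_tmul']

lemma star_flip_one (cM : HopfRep.Comod k A M) (h : M →ₗ[k] B) :
    star cM ((TensorProduct.mk k B A).flip 1 ∘ₗ h) LinearMap.id = h.rTensor A ∘ₗ cM.coact := by
  ext m
  show mu k A B (TensorProduct.map _ _ (cM.coact m)) = h.rTensor A (cM.coact m)
  induction cM.coact m using TensorProduct.induction_on with
  | zero => simp
  | add p q hp hq => simp only [map_add, hp, hq]
  | tmul m' a => simp

theorem bijOn_fixedPts [Module.Flat k A] [Module.Flat k B] [Module.FinitePresentation k M]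
    (cB : HopfRep.Comod k A B) (cM : HopfRep.Comod k A M) (d : HopfRep.Comod k A (Module.Dual k M))
    (hd : ComodTens.Comod.IsDual cM d) :
    Set.BijOn (fun x : B ⊗[k] Module.Dual k M => dualTensorHom k M B (TensorProduct.comm k B (Module.Dual k M) x))
      ((@HopfRep.fixedPts k A _ _ _ (B ⊗[k] Module.Dual k M) _ _ (ComodTens.Comod.tensor cB d)) :
        Set (B ⊗[k] Module.Dual k M))
      {h : M →ₗ[k] B | @Hoch.IsComodHom k _ A _ _ _ M _ _ cM B _ _ cB h} := by
  have key : ∀ x : B ⊗[k] Module.Dual k M,
      (ComodTens.Comod.tensor cB d).coact x = x ⊗ₜ[k] (1 : A) ↔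
        cB.coact ∘ₗ hom x = (hom x).rTensor A ∘ₗ cM.coact := fun x => by
    rw [← (psi_bijective (k := k) (A := A) (B := B) (M := M)).1.eq_iff, psi_coact cB cM d hd, psi_tmul_one,
      ← star_flip_one cM (hom x)]
    constructor
    · intro h
      rw [← h, star_star]
      rw [show toConv (LinearMap.id (R := k) (M := A)) = toConv LinearMap.id from rfl, LinearMap.antipode_mul_id,
        star_one]
    · intro h
      rw [h, star_star, LinearMap.id_mul_antipode, star_one]
  have hb : Function.Bijective (fun x : B ⊗[k] Module.Dual k M => hom x) :=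
    (dualTensorHom_bijective_of_flat (k := k) (M := M) B).comp (TensorProduct.comm k B (Module.Dual k M)).bijective
  refine ⟨fun x hx => ?_, hb.1.injOn, fun h hh => ?_⟩
  · exact (key x).1 hx
  · obtain ⟨x, rfl⟩ := hb.2 h
    exact ⟨x, (key x).2 hh, rfl⟩

end Groth.Agent.ComodDualEx
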